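import Cfsg.Agent.CoprimeValues.Nonsoluble
import Cfsg.Agent.Lib.CN.Basic

/-!
# Nilpotency of `γ_k` from the orders of products of values of coprime orders
-/

set_option autoImplicit false

namespace Cfsg.Agent.CoprimeValues

open Cfsg Subgroup

universe u

/-- The statement of S3900, granted that groups of odd order are soluble. -/
theorem main (hFT : ∀ {H : Type u} [Group H] [Finite H], Odd (Nat.card H) → Group.IsSolvable H)
    {G : Type u} [Group G] [Finite G] (k : ℕ) :
    Group.IsNilpotent ↥((⊤ : Subgroup G).lowerCentralSeries k) ↔ Cond G k := by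
  refine ⟨fun hN x y hx hy hc => Or.inr (le_of_eq ?_), fun h => ?_⟩
  · have hcomm := CN.commute_of_coprime hN hx.mem_lowerCentralSeries hy.mem_lowerCentralSeries hc
    exact (Commute.orderOf_mul_eq_mul_orderOf_of_coprime hcomm hc).symm
  · haveI := soluble_of_cond hFT _ rfl h
    exact nilpotent_of_soluble h

end Cfsg.Agent.CoprimeValues
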