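import Cfsg.Agent.CoprimeValues.Soluble
import Cfsg.Agent.S0116
import Cfsg.Agent.S0200
import Cfsg.Agent.S0215

/-!
# The coprime order condition forces solubility
-/

set_option autoImplicit false

namespace Cfsg.Agent.CoprimeValues

open Cfsg Subgroup

universe u

section Simple

variable {X : Type*} [Group X] [Finite X]

/-- An isolation step. -/
theorem fix_step (S : Sylow 2 X) {t : X} (ht2 : t * t = 1) (htS : ∀ s ∈ (S : Subgroup X), s * t = t * s)
    (hno : ∀ E : Subgroup X, (∀ a ∈ E, ∀ b ∈ E, a * b = b * a) → (∀ a ∈ E, a * a = 1) →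
      ∀ h : X, Odd (orderOf h) → h ∈ normalizer (E : Set X) → ∀ e ∈ E, h * e * h⁻¹ = e)
    {D : Subgroup X} (hD : D ≤ S) (htD : t ∈ D) {x : X} (hx : x ∈ normalizer (D : Set X))
    (hidx : ¬ 2 ∣ ((S : Subgroup X) ⊓ normalizer (D : Set X)).relIndex (normalizer (D : Set X))) :
    x⁻¹ * t * x = t := by
  let E : Subgroup X :=
    { carrier := {z | z ∈ D ∧ z * z = 1 ∧ ∀ d ∈ D, d * z = z * d}
      one_mem' := ⟨one_mem D, one_mul 1, fun d _ => by rw [mul_one, one_mul]⟩
      mul_mem' := fun {a b} ⟨ha, ha2, hac⟩ ⟨hb, hb2, hbc⟩ => ⟨mul_mem ha hb, by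
        rw [show a * b * (a * b) = a * (b * a) * b by group, hac b hb,
          show a * (a * b) * b = (a * a) * (b * b) by group, ha2, hb2, one_mul],
        fun d hd => by rw [← mul_assoc, hac d hd, mul_assoc, hbc d hd, mul_assoc]⟩
      inv_mem' := fun {a} ⟨ha, ha2, hac⟩ => by
        rw [show a⁻¹ = a from inv_eq_of_mul_eq_one_left ha2]; exact ⟨ha, ha2, hac⟩ }
  set N := normalizer (D : Set X) with hN
  have hNE : ∀ c ∈ N, c ∈ normalizer (E : Set X) := by
    have key : ∀ c ∈ N, ∀ z, z ∈ E → c * z * c⁻¹ ∈ E := fun c hc z ⟨hz, hz2, hzc⟩ =>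
      ⟨(mem_normalizer_iff.mp hc z).mp hz, by
        rw [show c * z * c⁻¹ * (c * z * c⁻¹) = c * (z * z) * c⁻¹ by group, hz2, mul_one,
          mul_inv_cancel], fun d hd => by
        have h1 := hzc _ ((mem_normalizer_iff''.mp hc d).mp hd)
        calc d * (c * z * c⁻¹) = c * (c⁻¹ * d * c * z) * c⁻¹ := by group
          _ = c * (z * (c⁻¹ * d * c)) * c⁻¹ := by rw [h1]
          _ = c * z * c⁻¹ * d := by group⟩
    refine fun c hc => mem_normalizer_iff.mpr fun z => ⟨key c hc z, fun hz => ?_⟩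
    simpa [mul_assoc] using key c⁻¹ (inv_mem hc) _ hz
  have htE : t ∈ E := ⟨htD, ht2, fun d hd => htS d (hD hd)⟩
  set C := centralizer ({t} : Set X) ⊓ N with hC
  have hSC : (S : Subgroup X) ⊓ N ≤ C :=
    le_inf (inf_le_left.trans fun s hs => mem_centralizer_singleton_iff.mpr (htS s hs)) inf_le_right
  have hall : C.relIndex N = 1 := by
    by_contra hne
    obtain ⟨r, hr, hrd⟩ := Nat.exists_prime_and_dvd hne
    have hr2 : r ≠ 2 := fun e => by
      subst e
      exact hidx (hrd.trans (relIndex_dvd_of_le_left N hSC))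
    haveI := Fact.mk hr
    obtain ⟨R⟩ : Nonempty (Sylow r N) := inferInstance
    refine R.not_dvd_index (hrd.trans (index_dvd_of_le fun c hc => ?_))
    have hodd : Odd (orderOf (c : X)) := by
      obtain ⟨i, hi⟩ := R.isPGroup' ⟨c, hc⟩
      have hd : orderOf (c : X) ∣ r ^ i :=
        orderOf_dvd_of_pow_eq_one (congrArg (fun z : (R : Subgroup N) => ((z : N) : X)) hi)
      exact ((hr.odd_of_ne_two hr2).pow).of_dvd_nat hd
    have h1 := hno E (fun a ha b hb => hb.2.2 a ha.1) (fun a ha => ha.2.1) c hodd (hNE _ c.2) t htE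
    refine mem_inf.mpr ⟨mem_centralizer_singleton_iff.mpr ?_, c.2⟩
    calc (c : X) * t = ((c : X) * t * (c : X)⁻¹) * c := by group
      _ = t * c := by rw [h1]
  have hxC := mem_centralizer_singleton_iff.mp (mem_inf.mp (relIndex_eq_one.mp hall hx)).1
  rw [mul_assoc, ← hxC, inv_mul_cancel_left]

/-- A non-abelian simple group of even order has an elementary abelian `2`-subgroup with an
automiser of even index, in the sense that an element of odd order acts non-trivially on it. -/
theorem exists_odd_automiser [IsSimpleGroup X] (hna : ¬ IsMulCommutative X)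
    (h2 : 2 ∣ Nat.card X) :
    ∃ E : Subgroup X, (∀ a ∈ E, ∀ b ∈ E, a * b = b * a) ∧ (∀ a ∈ E, a * a = 1) ∧
      ∃ h : X, Odd (orderOf h) ∧ h ∈ normalizer (E : Set X) ∧ ∃ e ∈ E, h * e * h⁻¹ ≠ e := by
  by_contra hno
  push Not at hno
  obtain ⟨S⟩ : Nonempty (Sylow 2 X) := inferInstance
  haveI : Nontrivial S := (nontrivial_iff_ne_bot _).mpr (S.ne_bot_of_dvd_card h2)
  have hc : Nontrivial (center S) := S.isPGroup'.center_nontrivial
  have h2c : 2 ∣ Nat.card (center S) := by
    obtain ⟨n, hn⟩ := IsPGroup.iff_card.mp (S.isPGroup'.to_subgroup (center S))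
    rw [hn]
    refine dvd_pow_self 2 fun e => ?_
    rw [e, pow_zero] at hn
    exact absurd hn (Finite.one_lt_card.ne')
  obtain ⟨⟨⟨t, htS⟩, htc⟩, hto⟩ := exists_prime_orderOf_dvd_card' 2 h2c
  rw [← Subgroup.orderOf_coe, ← Subgroup.orderOf_coe] at hto
  change orderOf t = 2 at hto
  have ht2 : t * t = 1 := by rw [← sq, ← hto, pow_orderOf_eq_one]
  have hts : ∀ s ∈ (S : Subgroup X), s * t = t * s := fun s hs =>
    congrArg Subtype.val (mem_center_iff.mp htc ⟨s, hs⟩)
  have hiso : ∀ g : X, g * t * g⁻¹ ∈ S → g * t * g⁻¹ = t := by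
    intro g hg
    obtain ⟨n, Q, x, hprod, hx, h0, hnext⟩ := S0116.result S {t} g⁻¹
      (Set.singleton_subset_iff.mpr htS) (by simpa using hg)
    have key : ∀ i ≤ n, (((List.ofFn x).take i).prod)⁻¹ * t * ((List.ofFn x).take i).prod = t := by
      intro i hi
      induction i with
      | zero => simp
      | succ i ih =>
        specialize ih (Nat.le_of_succ_le hi)
        have hin : i < n := hi
        have hmem : t ∈ (S : Subgroup X) ⊓ (Q ⟨i, hin⟩ : Subgroup X) := by
          rcases i with _ | i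
          · exact h0 hin (Set.mem_singleton t)
          · exact hnext ⟨i, Nat.lt_of_succ_lt hin⟩ hin ⟨t, rfl, ih⟩
        have hs := fix_step S ht2 hts hno inf_le_left hmem (hx ⟨i, hin⟩).1 (hx ⟨i, hin⟩).2.1
        rw [List.prod_take_succ _ _ (by simpa using hin), List.getElem_ofFn, mul_inv_rev]
        calc (x ⟨i, _⟩)⁻¹ * ((List.take i (List.ofFn x)).prod)⁻¹ * t *
              ((List.take i (List.ofFn x)).prod * x ⟨i, _⟩)
            = (x ⟨i, hin⟩)⁻¹ * (((List.take i (List.ofFn x)).prod)⁻¹ * t *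
              (List.take i (List.ofFn x)).prod) * x ⟨i, hin⟩ := by group
          _ = t := by rw [ih, hs]
    have h1 := key n le_rfl
    rwa [List.take_of_length_le (by simp), hprod, inv_inv] at h1
  obtain ⟨N, hN, hNodd, hcomm⟩ := S0215.result S t hto htS hiso
  rcases hN.eq_bot_or_eq_top with rfl | rfl
  · have htC : t ∈ center X := mem_center_iff.mpr fun g => by
      have := mem_bot.mp (hcomm g)
      calc g * t = (t * g * t⁻¹ * g⁻¹)⁻¹ * (t * g) := by group
        _ = t * g := by rw [this, inv_one, one_mul]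
    rcases (inferInstance : (center X).Normal).eq_bot_or_eq_top with e | e
    · rw [e, mem_bot] at htC
      rw [htC, orderOf_one] at hto
      omega
    · exact hna ⟨⟨fun a b => mem_center_iff.mp (e.ge (mem_top b)) a⟩⟩
  · rw [card_top] at hNodd
    exact Nat.not_odd_iff_even.mpr (even_iff_two_dvd.mpr h2) hNodd

variable {E : Subgroup X} (hEc : ∀ a ∈ E, ∀ b ∈ E, a * b = b * a) (hE2 : ∀ a ∈ E, a * a = 1)
include hEc hE2

omit hEc hE2 in
theorem comm_mem {h : X} (hh : h ∈ normalizer (E : Set X)) {v : X} (hv : v ∈ E) :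
    v * h * v⁻¹ * h⁻¹ ∈ E := by
  rw [show v * h * v⁻¹ * h⁻¹ = v * (h * v⁻¹ * h⁻¹) by group]
  exact mul_mem hv ((mem_normalizer_iff.mp hh _).mp (inv_mem hv))

omit hEc hE2 in
theorem iter_mem {h : X} (hh : h ∈ normalizer (E : Set X)) {e : X} (he : e ∈ E) :
    ∀ j, iter h j e ∈ E
  | 0 => he
  | j + 1 => comm_mem hh (iter_mem hh he j)

omit hE2 in
theorem iter_mul_left {h m : X} (hh : h ∈ normalizer (E : Set X)) (hm : m ∈ E) {e : X} (he : e ∈ E) :
    ∀ j, iter (m * h) j e = iter h j e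
  | 0 => rfl
  | j + 1 => by
    show iter (m * h) j e * (m * h) * (iter (m * h) j e)⁻¹ * (m * h)⁻¹ = _
    rw [iter_mul_left hh hm he j]
    set v := iter h j e with hv
    have hvE : v ∈ E := iter_mem hh he j
    have h1 : h * v⁻¹ * h⁻¹ ∈ E := (mem_normalizer_iff.mp hh _).mp (inv_mem hvE)
    calc v * (m * h) * v⁻¹ * (m * h)⁻¹ = v * (m * (h * v⁻¹ * h⁻¹)) * m⁻¹ := by group
      _ = v * ((h * v⁻¹ * h⁻¹) * m) * m⁻¹ := by rw [hEc m hm _ h1]
      _ = v * h * v⁻¹ * h⁻¹ := by group

/-- An element of odd order acts without `1`-eigen extensions on an elementary `2`-group. -/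
theorem comm_comm_ne_one {h : X} (hodd : Odd (orderOf h)) (hh : h ∈ normalizer (E : Set X)) {v : X}
    (hv : v ∈ E) (hne : v * h * v⁻¹ * h⁻¹ ≠ 1) :
    (v * h * v⁻¹ * h⁻¹) * h * (v * h * v⁻¹ * h⁻¹)⁻¹ * h⁻¹ ≠ 1 := by
  intro e
  set w := v * h * v⁻¹ * h⁻¹ with hw
  have hwE : w ∈ E := comm_mem hh hv
  have hwc : h * w * h⁻¹ = w := by
    calc h * w * h⁻¹ = (w * h * w⁻¹ * h⁻¹)⁻¹ * w := by group
      _ = w := by rw [e, inv_one, one_mul]
  have hinv : ∀ a ∈ E, a⁻¹ = a := fun a ha => inv_eq_of_mul_eq_one_left (hE2 a ha)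
  have h1 : h * v * h⁻¹ = w * v := by
    have h2 : h * v * h⁻¹ ∈ E := (mem_normalizer_iff.mp hh _).mp hv
    have h3 : w = v * (h * v * h⁻¹) := by
      rw [hw, hinv v hv]
      group
    rw [h3, hEc v hv _ h2, mul_assoc (h * v * h⁻¹), hE2 v hv, mul_one]
  have hpow : ∀ n : ℕ, h ^ n * v * (h ^ n)⁻¹ = w ^ n * v := by
    intro n
    induction n with
    | zero => simp
    | succ n ih =>
      rw [pow_succ' h, mul_inv_rev,
        show h * h ^ n * v * ((h ^ n)⁻¹ * h⁻¹) = h * (h ^ n * v * (h ^ n)⁻¹) * h⁻¹ by group, ih,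
        show h * (w ^ n * v) * h⁻¹ = (h * w ^ n * h⁻¹) * (h * v * h⁻¹) by group, ← conj_pow, hwc, h1,
        ← mul_assoc, pow_succ]
  have h2 := hpow (orderOf h)
  rw [pow_orderOf_eq_one, one_mul, inv_one, mul_one, right_eq_mul] at h2
  refine hne (orderOf_eq_one_iff.mp (Nat.eq_one_of_dvd_coprimes
    (Nat.coprime_two_left.mpr hodd) (orderOf_dvd_of_pow_eq_one ?_) (orderOf_dvd_of_pow_eq_one h2)))
  rw [sq, hE2 w hwE]

theorem iter_ne_one {h : X} (hodd : Odd (orderOf h)) (hh : h ∈ normalizer (E : Set X)) {e : X}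
    (he : e ∈ E) (hne : h * e * h⁻¹ ≠ e) : ∀ j, iter h j e ≠ 1
  | 0 => fun e1 => hne (by simp [show e = 1 from e1])
  | 1 => fun e1 => hne (by
      have e2 : e * h * e⁻¹ * h⁻¹ = 1 := e1
      calc h * e * h⁻¹ = (e * h * e⁻¹ * h⁻¹)⁻¹ * e := by group
        _ = e := by rw [e2, inv_one, one_mul])
  | j + 2 => comm_comm_ne_one hEc hE2 hodd hh (iter_mem hh he j) (iter_ne_one hodd hh he hne (j + 1))

end Simple

theorem iter_of_inverted {X : Type*} [Group X] {t z : X} (h : t * z * t⁻¹ = z⁻¹) :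
    ∀ j, iter t j z = z ^ 2 ^ j
  | 0 => by simp [iter]
  | j + 1 => by
    show iter t j z * t * (iter t j z)⁻¹ * t⁻¹ = _
    rw [iter_of_inverted h j,
      show z ^ 2 ^ j * t * (z ^ 2 ^ j)⁻¹ * t⁻¹ = z ^ 2 ^ j * (t * z ^ 2 ^ j * t⁻¹)⁻¹ by group,
      ← conj_pow, h, inv_pow, inv_inv, ← pow_add, ← two_mul, ← pow_succ']

/-- The condition forces solubility, given that groups of odd order are soluble. -/
theorem soluble_of_cond
    (hFT : ∀ {H : Type u} [Group H] [Finite H], Odd (Nat.card H) → Group.IsSolvable H) :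
    ∀ (n : ℕ) {G : Type u} [Group G] [Finite G] {k : ℕ}, Nat.card G = n → Cond G k →
      Group.IsSolvable G := by
  intro n
  induction n using Nat.strong_induction_on with
  | _ n ih =>
    intro G _ _ k hn hG
    subst hn
    have hproper : ∀ K : Subgroup G, K ≠ ⊤ → Group.IsSolvable K := fun K hK =>
      ih _ (lt_of_le_of_ne (Nat.le_of_dvd Nat.card_pos (card_subgroup_dvd_card K))
        fun e => hK (eq_top_of_card_eq K e)) rfl (hG.subgroup K)
    by_contra hns
    haveI : Nontrivial G := by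
      by_contra h1
      rw [not_nontrivial_iff_subsingleton] at h1
      exact hns inferInstance
    obtain ⟨R, hRm⟩ := (Set.toFinite {N : Subgroup G | N.Normal ∧ N ≠ ⊤}).exists_maximal
      ⟨⊥, inferInstance, bot_ne_top⟩
    obtain ⟨hRn, hRne⟩ := hRm.prop
    haveI := hRn
    haveI := hproper R hRne
    set π := QuotientGroup.mk' R with hπ
    have hsurj : Function.Surjective π := QuotientGroup.mk'_surjective R
    have hnsX : ¬ Group.IsSolvable (G ⧸ R) := fun _ =>
      hns (Group.isSolvable_of_ker_le_range R.subtype π (by rw [hπ, QuotientGroup.ker_mk', range_subtype]))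
    haveI : Nontrivial (G ⧸ R) := by
      rw [QuotientGroup.nontrivial_iff]
      exact hRne
    haveI : IsSimpleGroup (G ⧸ R) := ⟨fun N hN => by
      by_cases e : N = ⊤
      · exact Or.inr e
      refine Or.inl ?_
      have hR : R ≤ N.comap π := fun x hx => by
        show π x ∈ N
        rw [show π x = 1 from (QuotientGroup.eq_one_iff x).mpr hx]
        exact one_mem N
      have hne : N.comap π ≠ ⊤ := fun h => e (by
        rw [← map_comap_eq_self_of_surjective hsurj N, h, map_top_of_surjective π hsurj])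
      have hle : N.comap π ≤ R := hRm.2 ⟨inferInstance, hne⟩ hR
      rw [← map_comap_eq_self_of_surjective hsurj N, eq_bot_iff]
      exact (map_mono hle).trans (by rw [hπ, QuotientGroup.map_mk'_self])⟩
    have hna : ¬ IsMulCommutative (G ⧸ R) := fun hc =>
      hnsX (Group.isSolvable_of_comm fun a b => hc.is_comm.comm a b)
    have h2X : 2 ∣ Nat.card (G ⧸ R) := by
      rw [← even_iff_two_dvd, ← Nat.not_odd_iff_even]
      exact fun h => hnsX (hFT h)
    obtain ⟨E, hEc, hE2, h, hodd, hh, e, he, hne⟩ := exists_odd_automiser hna h2X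
    -- a `2`-element value over an involution
    have hEp : IsPGroup 2 E := fun a => ⟨1, Subtype.ext (by simpa [sq] using hE2 a a.2)⟩
    set M := E.comap π with hM
    obtain ⟨P⟩ : Nonempty (Sylow 2 M) := inferInstance
    set Q := (P : Subgroup M).map M.subtype with hQ
    have hQE : Q.map π = E := sylow_image hsurj hEp P
    have hQp : IsPGroup 2 Q := P.isPGroup'.map _
    obtain ⟨h₁, rfl⟩ := hsurj h
    set Q' := Q.map (MulAut.conj h₁).toMonoidHom with hQ'
    have hQ'M : Q' ≤ M := by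
      rintro _ ⟨x, hx, rfl⟩
      show π (h₁ * x * h₁⁻¹) ∈ E
      rw [map_mul, map_mul, map_inv]
      exact (mem_normalizer_iff.mp hh _).mp (hQE.le ⟨x, hx, rfl⟩)
    obtain ⟨P₁, hP₁⟩ := ((hQp.map (MulAut.conj h₁).toMonoidHom).comap_subtype (K := M)).exists_le_sylow
    have hcard : Nat.card (P₁ : Subgroup M) ≤ Nat.card (Q'.subgroupOf M) := by
      rw [Nat.card_congr (subgroupOfEquivOfLe hQ'M).toEquiv, hQ',
        card_map_of_injective (MulAut.conj h₁).injective, hQ, card_map_of_injective M.subtype_injective,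
        Sylow.card_eq_multiplicity, Sylow.card_eq_multiplicity]
    have hP₁' : Q'.subgroupOf M = P₁ := eq_of_le_of_card_ge hP₁ hcard
    obtain ⟨m, hm⟩ := MulAction.exists_smul_eq M P₁ P
    have hmQ : (m : G) * h₁ ∈ normalizer (Q : Set G) := by
      have key : ∀ x ∈ Q, (m : G) * h₁ * x * ((m : G) * h₁)⁻¹ ∈ Q := by
        intro x hx
        have hx' : h₁ * x * h₁⁻¹ ∈ Q' := ⟨x, hx, rfl⟩
        have h3 : m * ⟨h₁ * x * h₁⁻¹, hQ'M hx'⟩ * m⁻¹ ∈ (P : Subgroup M) := by
          rw [← hm, Sylow.coe_subgroup_smul]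
          exact ⟨_, hP₁'.le (show (⟨h₁ * x * h₁⁻¹, hQ'M hx'⟩ : M) ∈ Q'.subgroupOf M from hx'), rfl⟩
        refine ⟨_, h3, ?_⟩
        show (m : G) * (h₁ * x * h₁⁻¹) * (m : G)⁻¹ = _
        group
      have hmap : Q.map (MulAut.conj ((m : G) * h₁)).toMonoidHom = Q :=
        eq_of_le_of_card_ge (map_le_iff_le_comap.mpr key)
          (card_map_of_injective (MulAut.conj ((m : G) * h₁)).injective).ge
      refine mem_normalizer_iff.mpr fun x => ⟨key x, fun hx => ?_⟩
      obtain ⟨z, hz, hze⟩ := hmap.ge hx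
      exact (MulAut.conj ((m : G) * h₁)).injective hze ▸ hz
    obtain ⟨p₀, hp₀, rfl⟩ := hQE.ge he
    set y := iter ((m : G) * h₁) k p₀ with hy
    have hyQ : y ∈ Q := iter_mem hmQ hp₀ k
    set t := π y with ht
    have ht' : t = iter (π h₁) k (π p₀) := by
      rw [ht, hy, iter_map, map_mul]
      exact iter_mul_left hEc hh m.2 he k
    have ht1 : t ≠ 1 := ht' ▸ iter_ne_one hEc hE2 hodd hh he hne k
    have htE : t ∈ E := ht' ▸ iter_mem hh he k
    have hto : orderOf t = 2 := orderOf_eq_prime (by rw [sq, hE2 t htE]) ht1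
    -- an inverted element of odd order
    obtain ⟨z, hz1, hzodd, hinv⟩ := S0200.result t hto fun N hN hNp hmem => by
      rcases hN.eq_bot_or_eq_top with rfl | rfl
      · exact ht1 (mem_bot.mp hmem)
      · haveI : Group.IsNilpotent (G ⧸ R) := Group.isNilpotent_top.mp hNp.isNilpotent
        exact hnsX inferInstance
    set Y := (normalizer (zpowers z : Set (G ⧸ R))).comap π with hY
    have hYne : Y ≠ ⊤ := fun e => by
      have hn : (zpowers z).Normal := normalizer_eq_top_iff.mp (by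
        rw [← map_comap_eq_self_of_surjective hsurj (normalizer (zpowers z : Set (G ⧸ R))), ← hY, e,
          map_top_of_surjective π hsurj])
      rcases hn.eq_bot_or_eq_top with h' | h'
      · exact hz1 (zpowers_eq_bot.mp h')
      · refine hna ⟨⟨fun a b => ?_⟩⟩
        obtain ⟨i, rfl⟩ := mem_zpowers_iff.mp (h'.ge (mem_top a))
        obtain ⟨j, rfl⟩ := mem_zpowers_iff.mp (h'.ge (mem_top b))
        exact ((Commute.refl z).zpow_zpow i j).eq
    haveI := hproper Y hYne
    have hN := nilpotent_of_soluble (hG.subgroup Y)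
    obtain ⟨z₀, hz₀⟩ := hsurj z
    have hzY : z₀ ∈ Y := by
      show π z₀ ∈ normalizer (zpowers z : Set (G ⧸ R))
      rw [hz₀]
      exact le_normalizer (mem_zpowers z)
    have hyY : y ∈ Y := by
      show t ∈ normalizer (zpowers z : Set (G ⧸ R))
      have key : ∀ a ∈ zpowers z, t * a * t⁻¹ ∈ zpowers z := by
        rintro a ⟨i, rfl⟩
        show t * z ^ i * t⁻¹ ∈ _
        rw [← conj_zpow, hinv]
        exact zpow_mem (inv_mem (mem_zpowers z)) i
      have htt : t⁻¹ = t := inv_eq_of_mul_eq_one_left (hE2 t htE)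
      refine mem_normalizer_iff.mpr fun a => ⟨key a, fun ha => ?_⟩
      have := key _ ha
      rwa [show t * (t * a * t⁻¹) * t⁻¹ = (t * t) * a * (t * t)⁻¹ by group, hE2 t htE, one_mul,
        inv_one, mul_one] at this
    set w := iter (⟨y, hyY⟩ : Y) k (⟨z₀, hzY⟩ : Y) with hw
    have hwπ : π (w : G) = z ^ 2 ^ k := by
      show (π.comp Y.subtype) w = _
      rw [hw, iter_map]
      show iter (π y) k (π z₀) = _
      rw [hz₀]
      exact iter_of_inverted hinv k
    obtain ⟨r, hr, hrz⟩ := Nat.exists_prime_and_dvd (mt orderOf_eq_one_iff.mp hz1)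
    haveI := Fact.mk hr
    have hr2 : r ≠ 2 := fun e =>
      Nat.not_odd_iff_even.mpr (even_iff_two_dvd.mpr (e ▸ hrz)) hzodd
    set a := orderOf w
    set q := r ^ a.factorization r
    set l := a / q
    have hrl : ¬ r ∣ l := Nat.not_dvd_ordCompl hr (orderOf_pos w).ne'
    have hwl : (w ^ l) ^ q = 1 := by
      rw [← pow_mul, Nat.div_mul_cancel (Nat.ordProj_dvd a r), pow_orderOf_eq_one]
    have hF : w ^ l ∈ pCore r Y := by
      have hwF : w ^ l ∈ fittingSubgroup Y :=
        Cores.le_fittingSubgroup hN (pow_mem (val_iter _ _ k).mem_lowerCentralSeries l)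
      have hp : IsPGroup r (zpowers (⟨w ^ l, hwF⟩ : fittingSubgroup Y)) := by
        obtain ⟨j, -, hj⟩ := (Nat.dvd_prime_pow hr).mp
          (orderOf_dvd_of_pow_eq_one (Subtype.ext hwl : (⟨w ^ l, hwF⟩ : fittingSubgroup Y) ^ q = 1))
        exact IsPGroup.of_card (n := j) (by rw [Nat.card_zpowers, hj])
      obtain ⟨P', hP'⟩ := hp.exists_le_sylow
      rw [← Cores.sylow_fitting_map P']
      exact ⟨_, hP' (mem_zpowers _), rfl⟩
    set W := (pCore r Y).map Y.subtype with hW
    have hyn : y ∈ normalizer (W : Set G) := by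
      have h4 : Y ≤ normalizer (W : Set G) := by
        intro c hc
        refine mem_normalizer_iff.mpr fun x => ?_
        constructor
        · rintro ⟨v, hv, rfl⟩
          exact ⟨⟨c, hc⟩ * v * ⟨c, hc⟩⁻¹, Normal.conj_mem inferInstance v hv _, rfl⟩
        · rintro ⟨v, hv, hve⟩
          refine ⟨⟨c, hc⟩⁻¹ * v * ⟨c, hc⟩, Normal.conj_mem' inferInstance v hv _, ?_⟩
          have e' : (v : G) = c * x * c⁻¹ := hve
          show c⁻¹ * (v : G) * c = x
          rw [e']
          group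
      exact h4 hyY
    have hcop : (orderOf y).Coprime (Nat.card W) := by
      obtain ⟨i, hi⟩ := hQp ⟨y, hyQ⟩
      obtain ⟨j, hj⟩ := IsPGroup.iff_card.mp ((Cores.pCore_isPGroup (G := Y) r).map Y.subtype)
      rw [hW, hj]
      exact (Nat.Coprime.pow i j ((Nat.coprime_primes Nat.prime_two hr).mpr (Ne.symm hr2))).coprime_dvd_left
        (orderOf_dvd_of_pow_eq_one (congrArg Subtype.val hi))
    have hc := mem_centralizer_iff.mp (hG.centralizes (val_iter _ _ k) hyn hcop) _
      ⟨_, hF, rfl⟩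
    set v := z ^ (2 ^ k * l) with hv
    have hvπ : π ((w ^ l : Y) : G) = v := by rw [SubgroupClass.coe_pow, map_pow, hwπ, hv, pow_mul]
    have hcomm : v * t = t * v := by
      have h5 : π ((w ^ l : Y) : G) * π y = π y * π ((w ^ l : Y) : G) := by
        rw [← map_mul, ← map_mul]
        exact congrArg π hc
      rwa [hvπ] at h5
    have hv2 : v ^ 2 = 1 := by
      have h6 : t * v * t⁻¹ = v⁻¹ := by rw [hv, ← conj_pow, hinv, inv_pow]
      rw [← hcomm, mul_inv_cancel_right] at h6
      rw [sq]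
      nth_rewrite 1 [h6]
      exact inv_mul_cancel v
    have hv1 : v = 1 := orderOf_eq_one_iff.mp (Nat.eq_one_of_dvd_coprimes
      (Nat.coprime_two_left.mpr hzodd) (orderOf_dvd_of_pow_eq_one hv2)
      (orderOf_dvd_of_mem_zpowers (pow_mem (mem_zpowers z) _)))
    have hd : r ∣ 2 ^ k * l := hrz.trans (orderOf_dvd_of_pow_eq_one hv1)
    rcases hr.dvd_mul.mp hd with h' | h'
    · exact hr2 ((Nat.prime_dvd_prime_iff_eq hr Nat.prime_two).mp (hr.dvd_of_dvd_pow h'))
    · exact hrl h'

end Cfsg.Agent.CoprimeValues
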