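import Cfsg.Agent.CoprimeValues.Values
import Cfsg.Agent.Lib.Cores.Fitting

/-!
# A soluble group with the coprime order condition has nilpotent `γ_k`
-/

set_option autoImplicit false

namespace Cfsg.Agent.CoprimeValues

open Cfsg Subgroup

variable {G : Type*} [Group G] [Finite G] {k : ℕ}

/-- A Sylow subgroup of the preimage of a `q`-group maps onto it. -/
theorem sylow_image {H : Type*} [Group H] [Finite H] {q : ℕ} [hq : Fact q.Prime] {π : G →* H}
    (hsurj : Function.Surjective π) {A : Subgroup H} (hA : IsPGroup q A)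
    (P : Sylow q (A.comap π)) :
    ((P : Subgroup (A.comap π)).map (A.comap π).subtype).map π = A := by
  refine le_antisymm (map_le_iff_le_comap.mpr (map_subtype_le _)) ?_
  let φ : A.comap π →* A := (π.comp (A.comap π).subtype).codRestrict A fun m => m.2
  have hφ : Function.Surjective φ := fun a => by
    obtain ⟨g, hg⟩ := hsurj a.1
    exact ⟨⟨g, show π g ∈ A from hg ▸ a.2⟩, Subtype.ext hg⟩
  have h1 : (P : Subgroup (A.comap π)).map φ = ⊤ := by
    rw [← index_eq_one]
    by_contra hne
    obtain ⟨r, hr, hrd⟩ := Nat.exists_prime_and_dvd hne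
    have hrq : r = q := by
      obtain ⟨n, hn⟩ := IsPGroup.iff_card.mp hA
      exact (Nat.prime_dvd_prime_iff_eq hr hq.out).mp
        (hr.dvd_of_dvd_pow (hn ▸ hrd.trans (index_dvd_card _)))
    subst hrq
    exact P.not_dvd_index (hrd.trans (index_map_dvd _ hφ))
  intro a ha
  obtain ⟨m, hm, e⟩ := h1.ge (mem_top (⟨a, ha⟩ : A))
  exact ⟨m.1, ⟨m, hm, rfl⟩, congrArg Subtype.val e⟩

/-- Normal `q`-subgroups of `G/F(G)` lie in the `k`-th centre. -/
theorem pgroup_le_upper (h : Cond G k) {q : ℕ} [hq : Fact q.Prime]
    (A : Subgroup (G ⧸ fittingSubgroup G)) [A.Normal] (hA : IsPGroup q A) :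
    A ≤ Subgroup.upperCentralSeries (G ⧸ fittingSubgroup G) k := by
  set F := fittingSubgroup G with hF
  set π := QuotientGroup.mk' F with hπ
  have hsurj : Function.Surjective π := QuotientGroup.mk'_surjective F
  set M := A.comap π with hM
  obtain ⟨P⟩ : Nonempty (Sylow q M) := inferInstance
  set Q := (P : Subgroup M).map M.subtype with hQ
  have hQp : IsPGroup q Q := P.isPGroup'.map _
  have hQA : Q.map π = A := sylow_image hsurj hA P
  set N := normalizer (Q : Set G) with hN
  have hNsup : N ⊔ M = ⊤ := Sylow.normalizer_sup_eq_top P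
  have hNG : ∀ b : G ⧸ F, ∃ n ∈ N, π n = b := by
    have h1 : N.map π = ⊤ := by
      have h2 : N.map π ⊔ M.map π = ⊤ := by
        rw [← Subgroup.map_sup, hNsup, map_top_of_surjective π hsurj]
      rw [hM, map_comap_eq_self_of_surjective hsurj, ← hQA] at h2
      rwa [sup_eq_left.mpr (map_mono le_normalizer)] at h2
    intro b
    exact h1.ge (mem_top b)
  -- values inside `Q` lie in `F`
  set D := Q ⊓ ⨅ r : ℕ, ⨅ (_ : r.Prime), ⨅ (_ : r ≠ q), centralizer (pCore r G : Set G) with hD
  have hFN : F ≤ normalizer (D : Set G) := by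
    rw [hF, Cores.fittingSubgroup_eq_iSup]
    refine iSup_le fun p => ?_
    have hp := Nat.prime_of_mem_primeFactors p.2
    by_cases hpq : (p : ℕ) = q
    · have hle : pCore (p : ℕ) G ≤ Q := by
        rw [hpq]
        have hcm : pCore q G ≤ M := fun x hx => by
          show π x ∈ A
          rw [(QuotientGroup.eq_one_iff x).mpr (Cores.pCore_le_fitting q hx) |> fun e =>
            (show π x = 1 from e)]
          exact one_mem _
        have hsup : IsPGroup q ↥((P : Subgroup M) ⊔ (pCore q G).subgroupOf M) :=
          P.isPGroup'.to_sup_of_normal_right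
            ((Cores.pCore_isPGroup q).comap_subtype)
        have e := P.3 hsup le_sup_left
        intro x hx
        exact ⟨⟨x, hcm hx⟩, e ▸ mem_sup_right (show (⟨x, hcm hx⟩ : M) ∈ (pCore q G).subgroupOf M from hx), rfl⟩
      intro c hc
      refine mem_normalizer_iff.mpr fun x => ?_
      have hQ' : ∀ x, x ∈ Q ↔ c * x * c⁻¹ ∈ Q :=
        mem_normalizer_iff.mp (le_normalizer (hle hc))
      simp only [hD, mem_inf, mem_iInf]
      refine and_congr (hQ' x) (forall_congr' fun r => forall_congr' fun _ => forall_congr' fun _ => ?_)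
      have : (centralizer (pCore r G : Set G)).Normal := inferInstance
      exact ⟨fun hx => this.conj_mem x hx c, fun hx => by simpa [mul_assoc] using this.conj_mem _ hx c⁻¹⟩
    · intro c hc
      refine centralizer_le_normalizer _ (mem_centralizer_iff.mpr fun x hx => ?_)
      have hx' := (mem_iInf.mp (mem_inf.mp hx).2) p
      simp only [mem_iInf] at hx'
      exact (mem_centralizer_iff.mp (hx' hp hpq) c hc).symm
  have hND : N ≤ normalizer (D : Set G) := fun c hc => by
    refine mem_normalizer_iff.mpr fun x => ?_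
    simp only [hD, mem_inf, mem_iInf]
    refine and_congr (mem_normalizer_iff.mp hc x)
      (forall_congr' fun r => forall_congr' fun _ => forall_congr' fun _ => ?_)
    have : (centralizer (pCore r G : Set G)).Normal := inferInstance
    exact ⟨fun hx => this.conj_mem x hx c, fun hx => by simpa [mul_assoc] using this.conj_mem _ hx c⁻¹⟩
  haveI hDn : D.Normal := normalizer_eq_top_iff.mp (top_le_iff.mp fun g _ => by
    obtain ⟨n, hn, e⟩ := hNG (π g)
    have : g * n⁻¹ ∈ F := (QuotientGroup.eq_one_iff _).mp (by
      show π (g * n⁻¹) = 1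
      rw [map_mul, map_inv, e, mul_inv_cancel])
    simpa using mul_mem (hFN this) (hND hn))
  have hDF : D ≤ F :=
    (Cores.le_pCore (hQp.to_le inf_le_left)).trans (Cores.pCore_le_fitting q)
  have hval : ∀ y ∈ Q, Val k y → y ∈ F := fun y hy hv => hDF <| by
    simp only [hD, mem_inf, mem_iInf]
    refine ⟨hy, fun r hr hne => h.centralizes hv ?_ ?_⟩
    · rw [normalizer_eq_top_iff.mpr inferInstance]; exact mem_top y
    · haveI := Fact.mk hr
      obtain ⟨i, hi⟩ := hQp ⟨y, hy⟩
      have hd : orderOf y ∣ q ^ i := orderOf_dvd_of_pow_eq_one (congrArg Subtype.val hi)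
      obtain ⟨n, hn⟩ := IsPGroup.iff_card.mp (Cores.pCore_isPGroup (G := G) r)
      rw [hn]
      exact (Nat.Coprime.pow i n ((Nat.coprime_primes hq.out hr).mpr (Ne.symm hne))).coprime_dvd_left hd
  -- climb the upper central series
  have climb : ∀ j i : ℕ, i + j = k → ∀ y ∈ Q, Val i y →
      π y ∈ Subgroup.upperCentralSeries (G ⧸ F) j := by
    intro j
    induction j with
    | zero =>
      intro i hi y hy hv
      obtain rfl : i = k := by simpa using hi
      rw [Subgroup.upperCentralSeries_zero, mem_bot]
      exact (QuotientGroup.eq_one_iff y).mpr (hval y hy hv)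
    | succ j ih =>
      intro i hi y hy hv
      refine (Subgroup.mem_upperCentralSeries_succ_iff).mpr fun b => ?_
      obtain ⟨n, hn, rfl⟩ := hNG b
      have hmem : y * n * y⁻¹ * n⁻¹ ∈ Q := by
        rw [show y * n * y⁻¹ * n⁻¹ = y * (n * y⁻¹ * n⁻¹) by group]
        exact mul_mem hy ((mem_normalizer_iff.mp hn y⁻¹).mp (inv_mem hy))
      have := ih (i + 1) (by omega) _ hmem ⟨y, n, hv, rfl⟩
      simpa [commutatorElement_def] using this
  intro a ha
  obtain ⟨y, hy, rfl⟩ := hQA.ge ha
  exact climb k 0 (Nat.zero_add k) y hy trivial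

/-- Normal nilpotent subgroups of `G/F(G)` lie in the `k`-th centre. -/
theorem nilpotent_le_upper (h : Cond G k) (A : Subgroup (G ⧸ fittingSubgroup G)) [A.Normal]
    (hA : Group.IsNilpotent A) : A ≤ Subgroup.upperCentralSeries (G ⧸ fittingSubgroup G) k := by
  refine (Cores.le_fittingSubgroup hA).trans ?_
  rw [Cores.fittingSubgroup_eq_iSup (G := G ⧸ fittingSubgroup G)]
  refine iSup_le fun p => ?_
  haveI := Fact.mk (Nat.prime_of_mem_primeFactors p.2)
  exact pgroup_le_upper h _ (Cores.pCore_isPGroup _)

/-- The soluble case. -/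
theorem nilpotent_of_soluble [Group.IsSolvable G] (h : Cond G k) :
    Group.IsNilpotent ↥((⊤ : Subgroup G).lowerCentralSeries k) := by
  set B := G ⧸ fittingSubgroup G
  set Z := Subgroup.upperCentralSeries B k with hZ
  have hZtop : Z = ⊤ := by
    by_contra hne
    haveI : Nontrivial (B ⧸ Z) := by
      rw [QuotientGroup.nontrivial_iff]
      exact hne
    haveI : Group.IsSolvable (B ⧸ Z) :=
      Group.isSolvable_of_surjective (QuotientGroup.mk'_surjective Z)
    classical
    have hex : ∃ n, derivedSeries (B ⧸ Z) n = ⊥ := (Group.isSolvable_def _).mp inferInstance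
    obtain ⟨m, hm⟩ : ∃ m, Nat.find hex = m + 1 := Nat.exists_eq_succ_of_ne_zero fun e => by
      have := Nat.find_spec hex
      rw [e, derivedSeries_zero] at this
      exact top_ne_bot this
    set A := derivedSeries (B ⧸ Z) m with hA
    have hA1 : A ≠ ⊥ := Nat.find_min hex (by omega)
    have hA2 : ⁅A, A⁆ = ⊥ := by
      rw [← derivedSeries_succ, ← hm]
      exact Nat.find_spec hex
    haveI : A.Normal := derivedSeries_normal _ _
    set C := A.comap (QuotientGroup.mk' Z) with hC
    have key : ∀ j, j ≤ k →
        C.lowerCentralSeries (j + 1) ≤ Subgroup.upperCentralSeries B (k - j) := by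
      intro j
      induction j with
      | zero =>
        intro _
        refine commutator_le.mpr fun a ha b hb => (QuotientGroup.eq_one_iff _).mp ?_
        refine mem_bot.mp (hA2.le ?_)
        have := commutator_mem_commutator (show QuotientGroup.mk' Z a ∈ A from ha)
          (show QuotientGroup.mk' Z b ∈ A from hb)
        rwa [← map_commutatorElement] at this
      | succ j ih =>
        intro hj
        refine commutator_le.mpr fun a ha b _ => ?_
        have h1 := ih (by omega) ha
        rw [show k - j = (k - (j + 1)) + 1 by omega] at h1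
        exact Subgroup.mem_upperCentralSeries_succ_iff.mp h1 b
    have hCn : Group.IsNilpotent C := by
      refine (isNilpotent_iff_lowerCentralSeries C).mpr ⟨k + 1, ?_⟩
      have := key k le_rfl
      rwa [Nat.sub_self, Subgroup.upperCentralSeries_zero, le_bot_iff] at this
    have hle := nilpotent_le_upper h C hCn
    refine hA1 (eq_bot_iff.mpr fun a ha => ?_)
    obtain ⟨b, rfl⟩ := QuotientGroup.mk'_surjective Z a
    exact mem_bot.mpr ((QuotientGroup.eq_one_iff b).mpr (hle ha))
  refine Cores.isNilpotent_to_le (lowerCentralSeries_le k _ fun x hx => ?_)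
    Cores.fittingSubgroup_isNilpotent
  have := (hx.map (QuotientGroup.mk' (fittingSubgroup G))).mem_lowerCentralSeries
  rw [(lowerCentralSeries_eq_bot_iff_upperCentralSeries_eq_top).mpr hZtop, mem_bot] at this
  exact (QuotientGroup.eq_one_iff x).mp this

end Cfsg.Agent.CoprimeValues
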