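import Mathlib.GroupTheory.Nilpotent
import Mathlib.GroupTheory.OrderOfElement

/-!
# Values of the left-normed commutator word of weight `k + 1`
-/

set_option autoImplicit false

namespace Cfsg.Agent.CoprimeValues

variable {G H : Type*} [Group G] [Group H]

/-- `x` is a value `[a₀, a₁, ..., a_k]`. -/
def Val : ℕ → G → Prop
  | 0, _ => True
  | k + 1, x => ∃ v g : G, Val k v ∧ x = v * g * v⁻¹ * g⁻¹

/-- `[a, h, ..., h]` with `k` copies of `h`. -/
def iter (h : G) : ℕ → G → G
  | 0, a => a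
  | k + 1, a => iter h k a * h * (iter h k a)⁻¹ * h⁻¹

theorem val_iter (h a : G) : ∀ k, Val k (iter h k a)
  | 0 => trivial
  | k + 1 => ⟨iter h k a, h, val_iter h a k, rfl⟩

theorem iter_map (φ : G →* H) (h a : G) : ∀ k, φ (iter h k a) = iter (φ h) k (φ a)
  | 0 => rfl
  | k + 1 => by simp only [iter, map_mul, map_inv, iter_map φ h a k]

theorem Val.map (φ : G →* H) : ∀ {k : ℕ} {x : G}, Val k x → Val k (φ x)
  | 0, _, _ => trivial
  | _ + 1, _, ⟨v, g, hv, e⟩ => ⟨φ v, φ g, hv.map φ, by rw [e]; simp⟩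

theorem Val.conj {k : ℕ} {x : G} (h : Val k x) (g : G) : Val k (g * x * g⁻¹) :=
  h.map (MulAut.conj g).toMonoidHom

theorem Val.step : ∀ {k : ℕ} {x : G}, Val (k + 1) x → Val k x
  | 0, _, _ => trivial
  | _ + 1, _, ⟨v, g, hv, e⟩ => ⟨v, g, hv.step, e⟩

theorem Val.inv : ∀ {k : ℕ} {x : G}, Val k x → Val k x⁻¹
  | 0, _, _ => trivial
  | _ + 1, _, ⟨v, g, hv, e⟩ => ⟨g * v * g⁻¹, g⁻¹, hv.conj g, by rw [e]; group⟩

theorem Val.comm_left {k : ℕ} {y : G} (h : Val k y) (g : G) : Val k (y * g * y⁻¹ * g⁻¹) :=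
  Val.step ⟨y, g, h, rfl⟩

theorem Val.comm_right {k : ℕ} {y : G} (h : Val k y) (g : G) : Val k (g * y * g⁻¹ * y⁻¹) := by
  have := (h.comm_left g).inv
  rwa [show (y * g * y⁻¹ * g⁻¹)⁻¹ = g * y * g⁻¹ * y⁻¹ by group] at this

theorem Val.mem_lowerCentralSeries :
    ∀ {k : ℕ} {x : G}, Val k x → x ∈ (⊤ : Subgroup G).lowerCentralSeries k
  | 0, _, _ => Subgroup.mem_top _
  | _ + 1, _, ⟨v, g, hv, e⟩ => e ▸
      Subgroup.commutator_mem_commutator hv.mem_lowerCentralSeries (Subgroup.mem_top g)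

theorem lowerCentralSeries_le : ∀ (k : ℕ) (N : Subgroup G) [N.Normal],
    (∀ x, Val k x → x ∈ N) → (⊤ : Subgroup G).lowerCentralSeries k ≤ N
  | 0, N, _, h => fun x _ => h x trivial
  | k + 1, N, _, h => by
    haveI : (Subgroup.upperCentralSeriesStep N).Normal := by
      rw [Subgroup.upperCentralSeriesStep_eq_comap_center]
      infer_instance
    have ih := lowerCentralSeries_le k (Subgroup.upperCentralSeriesStep N)
      fun v hv g => h _ ⟨v, g, hv, rfl⟩
    exact Subgroup.commutator_le.mpr fun v hv g _ => ih hv g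

/-- The hypothesis on the values. -/
def Cond (G : Type*) [Group G] (k : ℕ) : Prop :=
  ∀ x y : G, Val k x → Val k y → (orderOf x).Coprime (orderOf y) →
    (∀ r : ℕ, r.Prime → r ∣ orderOf x * orderOf y → r ∣ orderOf (x * y)) ∨
      orderOf x * orderOf y ≤ orderOf (x * y)

theorem Cond.subgroup {k : ℕ} (h : Cond G k) (K : Subgroup G) : Cond K k := by
  intro x y hx hy hc
  simp only [← Subgroup.orderOf_coe, Subgroup.coe_mul] at hc ⊢
  exact h x y (hx.map K.subtype) (hy.map K.subtype) hc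

/-- A value centralises every subgroup of coprime order which it normalises. -/
theorem Cond.centralizes [Finite G] {k : ℕ} (h : Cond G k) {y : G} (hy : Val k y) {W : Subgroup G}
    (hn : y ∈ Subgroup.normalizer (W : Set G)) (hc : (orderOf y).Coprime (Nat.card W)) :
    y ∈ Subgroup.centralizer (W : Set G) := by
  refine Subgroup.mem_centralizer_iff.mpr fun g hg => ?_
  set x := g * y * g⁻¹ * y⁻¹ with hx
  have hxW : x ∈ W := by
    have h1 : y * g⁻¹ * y⁻¹ ∈ W :=
      (Subgroup.mem_normalizer_iff.mp hn g⁻¹).mp (inv_mem hg)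
    simpa [hx, mul_assoc] using mul_mem hg h1
  have hco : (orderOf x).Coprime (orderOf y) :=
    (hc.coprime_dvd_right (Subgroup.orderOf_dvd_natCard W hxW)).symm
  have hxy : orderOf (x * y) = orderOf y := by
    rw [hx, inv_mul_cancel_right]
    exact (MulAut.conj g).orderOf_eq y
  have hx1 : orderOf x = 1 := by
    rcases h x y (hy.comm_right g) hy hco with h' | h'
    · by_contra hne
      obtain ⟨r, hr, hrd⟩ := Nat.exists_prime_and_dvd hne
      have := h' r hr (hrd.mul_right _)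
      rw [hxy] at this
      exact hr.ne_one (Nat.eq_one_of_dvd_coprimes hco hrd this)
    · rw [hxy] at h'
      have h1 := orderOf_pos x
      have h2 : orderOf x * orderOf y ≤ 1 * orderOf y := by rwa [one_mul]
      have := Nat.le_of_mul_le_mul_right h2 (orderOf_pos y)
      omega
  have e : g * y * g⁻¹ * y⁻¹ = 1 := orderOf_eq_one_iff.mp hx1
  calc g * y = (g * y * g⁻¹ * y⁻¹) * (y * g) := by group
    _ = y * g := by rw [e, one_mul]

theorem foldl_val : ∀ (l : List G) (n : ℕ) (a : G), Val n a →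
    Val (n + l.length) (l.foldl (fun a b => a * b * a⁻¹ * b⁻¹) a)
  | [], _, _, h => h
  | g :: l, n, a, h => by
    have := foldl_val l (n + 1) _ ⟨a, g, h, rfl⟩
    rw [List.foldl_cons, List.length_cons, ← Nat.add_assoc, Nat.add_right_comm]
    exact this

theorem exists_foldl_of_val : ∀ {k : ℕ} {x : G}, Val k x → ∃ (a : G) (l : List G),
    l.length = k ∧ x = l.foldl (fun a b => a * b * a⁻¹ * b⁻¹) a
  | 0, x, _ => ⟨x, [], rfl, rfl⟩
  | _ + 1, _, ⟨v, g, hv, e⟩ => by
    obtain ⟨a, l, hl, rfl⟩ := exists_foldl_of_val hv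
    exact ⟨a, l ++ [g], by simp [hl], by rw [List.foldl_append]; exact e⟩

theorem val_iff {k : ℕ} {x : G} : (∃ f : Fin (k + 1) → G,
    x = ((List.ofFn f).tail).foldl (fun a b => a * b * a⁻¹ * b⁻¹) (f 0)) ↔ Val k x := by
  constructor
  · rintro ⟨f, rfl⟩
    have := foldl_val (List.ofFn f).tail 0 (f 0) trivial
    simpa using this
  · intro h
    obtain ⟨a, l, rfl, rfl⟩ := exists_foldl_of_val h
    exact ⟨Fin.cons a l.get, by simp [List.ofFn_succ]⟩

end Cfsg.Agent.CoprimeValues
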